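import Groth.Agent.AbTorusExt.Proj
import Groth.Agent.GmProperLib.TorusHom
import Groth.Agent.Chevalley.BC.AffLib
import Groth.Agent.GrpFieldLib.RangeNhdFlat
import Groth.Agent.GrpSchLib.KernelGrp
import Groth.Agent.S7982
import Groth.Agent.S3280
import Mathlib.AlgebraicGeometry.Morphisms.Proper
import Mathlib.AlgebraicGeometry.Morphisms.FlatDescent

/-! Maximal tori of an extension of a torus by an abelian variety map onto the torus by an isogeny. -/

noncomputable section

set_option autoImplicit false
set_option linter.style.haveILetI false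
set_option linter.unusedSectionVars false
set_option backward.isDefEq.respectTransparency false
set_option maxHeartbeats 1000000

universe u

open CategoryTheory CategoryTheory.Limits MonoidalCategory CartesianMonoidalCategory MonObj AlgebraicGeometry Opposite
open Groth.Agent.Chevalley Groth.Agent.Chevalley.CommAff

namespace Groth.Agent.AbTorusExt

variable {k : Type u} [Field k]

theorem connectedSpace_left (A : Over (Spec (CommRingCat.of k)))
    (hA : ∀ s : Spec (CommRingCat.of k), ConnectedSpace ↥(A.hom.fiber s)) : ConnectedSpace A.left := by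
  haveI := hA (IsLocalRing.closedPoint k)
  have hs : Function.Surjective (A.hom.fiberι (IsLocalRing.closedPoint k)) := fun x => by
    have : x ∈ Set.range (A.hom.fiberι (IsLocalRing.closedPoint k)) := by
      rw [Scheme.Hom.range_fiberι]
      exact Subsingleton.elim (α := PrimeSpectrum k) _ _
    exact this
  exact hs.connectedSpace (A.hom.fiberι _).continuous

theorem isSA_of_proper (A : Over (Spec (CommRingCat.of k))) [GrpObj A] [IsCommMonObj A] [IsProper A.hom]
    [Smooth A.hom] [ConnectedSpace A.left] : IsSA A := by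
  obtain ⟨Ta, _, i, hi, hic, hTa, -⟩ := exists_absTorus A
  haveI := hi; haveI := hic
  have hi1 : i = 1 := GmProperLib.eq_one_torus hTa i
  haveI : Mono i := Over.mono_of_mono_left _
  have w : i ≫ 𝟙 A = toUnit Ta ≫ η[A] := by rw [Category.comp_id, hi1, Hom.one_def]
  have hk : AlgGrp.IsKernel i (𝟙 A) := IsPullback.of_isLimit' ⟨w⟩ (PullbackCone.IsLimit.mk w (fun s => 1)
    (fun s => by
      have h := s.condition
      rw [Category.comp_id, toUnit_unique s.snd (toUnit _), ← Hom.one_def] at h
      rw [MonObj.one_comp, h])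
    (fun s => toUnit_unique _ _) (fun s m h1 _ => by
      have h := s.condition
      rw [Category.comp_id, toUnit_unique s.snd (toUnit _), ← Hom.one_def] at h
      rw [← cancel_mono i, MonObj.one_comp, h1, h]))
  exact isSA_of_proper_quot i hTa (𝟙 A) hk

theorem isSA_of_torus (T : Over (Spec (CommRingCat.of k))) [GrpObj T] (hT : Red.IsTorus T) : IsSA T := by
  obtain ⟨h1, h2, h3, h4, h5⟩ := torus_props hT
  let P : Over (Spec (CommRingCat.of k)) := 𝟙_ (Over (Spec (CommRingCat.of k)))
  haveI : IsProper P.hom := inferInstanceAs (IsProper (𝟙 (Spec (CommRingCat.of k))))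
  haveI : Surjective (toUnit T).left := by
    haveI : Subsingleton ↥P.left := inferInstanceAs (Subsingleton (PrimeSpectrum k))
    exact ⟨fun x => ⟨η[T].left x, Subsingleton.elim _ _⟩⟩
  haveI : Flat (toUnit T).left := MagnetA1.flat_over_field k _
  have w : 𝟙 T ≫ toUnit T = toUnit T ≫ η[P] := toUnit_unique _ _
  have hk : AlgGrp.IsKernel (𝟙 T) (toUnit T) :=
    IsPullback.of_isLimit' ⟨w⟩ (PullbackCone.IsLimit.mk w (fun s => s.fst) (fun s => Category.comp_id _)
      (fun s => toUnit_unique _ _) (fun s m hm _ => by rw [Category.comp_id] at hm; exact hm))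
  exact isSA_of_proper_quot (Q := P) (𝟙 T) hT (toUnit T) hk

theorem smooth_and_maximalTorus (T A E : Over (Spec (CommRingCat.of k)))
    [GrpObj T] [IsCommMonObj T] (hT : Red.IsTorus T)
    [GrpObj A] [IsCommMonObj A] [Smooth A.hom] [IsProper A.hom]
    (hA : ∀ s : Spec (CommRingCat.of k), ConnectedSpace ↥(A.hom.fiber s))
    [GrpObj E] [IsCommMonObj E]
    (f : A ⟶ E) (v : E ⟶ T) [IsMonHom f] [IsMonHom v] (w : f ≫ v = 1)
    (hex : (CGrpSh.seq Scheme.fppfPrecoverage f v w).ShortExact) :
    Smooth E.hom ∧ ConnectedSpace ↥E.left ∧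
      ∀ (T₀ : Over (Spec (CommRingCat.of k))) [GrpObj T₀] (i : T₀ ⟶ E), Red.IsMaximalTorus i →
        IsFinite (i ≫ v).left ∧ Flat (i ≫ v).left ∧ Surjective (i ≫ v).left := by
  obtain ⟨hTs, hTa, hTc, -, hTq⟩ := torus_props hT
  haveI := hTs; haveI := hTa; haveI := hTc; haveI := hTq
  haveI := connectedSpace_left A hA
  obtain ⟨hvp, hvf, hvs⟩ := proj_props hex
  haveI := hvp; haveI := hvf; haveI := hvs
  haveI : LocallyOfFiniteType E.hom := by rw [← Over.w v]; infer_instance
  haveI : QuasiCompact E.hom := by rw [← Over.w v]; infer_instance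
  haveI : IsSeparated T.hom := GrpSchLib.AntiAffine.isSeparated_grp T
  have hk := isKernel hex
  haveI : IsClosedImmersion f.left := by
    haveI : IsClosedImmersion η[T].left := (GrpSchLib.diagonal_iff_unit @IsClosedImmersion).mp inferInstance
    exact MorphismProperty.of_isPullback (P := @IsClosedImmersion)
      (hk.map (Over.forget (Spec (CommRingCat.of k)))).flip ‹IsClosedImmersion η[T].left›
  have hSA : IsSA E := isSA_ext (isSA_of_proper A) (isSA_of_torus T hT) f v hk
  obtain ⟨hEs, hEc⟩ := hSA.props
  refine ⟨hEs, hEc, ?_⟩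
  intro T₀ _ i hmax
  obtain ⟨T', _, i', B, _, q, hi', hi'c, hT', hq, hqs, hqf, hkq, hBp, hBs, hBc⟩ := hSA
  haveI := hi'; haveI := hi'c; haveI := hq; haveI := hqs; haveI := hqf; haveI := hBp; haveI := hBs; haveI := hBc
  obtain ⟨hT's, hT'a, hT'c, -, hT'q⟩ := torus_props hT'
  haveI := hT's; haveI := hT'a; haveI := hT'c; haveI := hT'q
  haveI : Mono i' := Over.mono_of_mono_left _
  obtain ⟨hi, hiM, hT₀, hmax'⟩ := hmax
  haveI := hi; haveI := hiM
  obtain ⟨hT₀s, -, -, -, -⟩ := torus_props hT₀
  haveI := hT₀s
  -- the torus `T₀` is `T'`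
  obtain ⟨g, hg⟩ : ∃ g : T₀ ⟶ T', g ≫ i' = i :=
    ⟨hkq.lift i (toUnit T₀) (by rw [GmProperLib.eq_one_torus hT₀ (i ≫ q), Hom.one_def]), hkq.lift_fst _ _ _⟩
  haveI : IsIso g := by
    let s₀ : Spec (CommRingCat.of k) := IsLocalRing.closedPoint k
    let gm := Red.geomPt s₀
    haveI : IsMonHom ((Over.pullback gm).map i') := inferInstance
    haveI : Mono ((Over.pullback gm).map i') := inferInstance
    have hiso : IsIso ((Over.pullback gm).map g) := hmax' s₀ (Red.geomFibre s₀ T') ((Over.pullback gm).map i')
      ((Over.pullback gm).map g) (GmProperLib.isTorus_bc gm hT') (by rw [← Functor.map_comp, hg])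
    haveI : Subsingleton ↥(Spec (CommRingCat.of k)) := inferInstanceAs (Subsingleton (PrimeSpectrum k))
    have hgms : Surjective gm :=
      ⟨fun x => ⟨(⊥ : PrimeSpectrum (AlgebraicClosure ((Spec (CommRingCat.of k)).residueField s₀))),
        Subsingleton.elim _ _⟩⟩
    have hgmf : Flat gm := MagnetA1.flat_over_field k _
    have hgmq : QuasiCompact gm := by
      haveI : IsAffineHom gm := inferInstance
      infer_instance
    have hsq : IsPullback ((Over.pullback gm).map g).left (pullback.fst T₀.hom gm) (pullback.fst T'.hom gm) g.left := by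
      refine IsPullback.of_right (h₁₂ := pullback.snd T'.hom gm) (h₂₂ := T'.hom) (v₁₃ := gm) ?_ ?_
        (IsPullback.of_hasPullback T'.hom gm).flip
      · rw [Over.w g, show ((Over.pullback gm).map g).left ≫ pullback.snd T'.hom gm = pullback.snd T₀.hom gm from
          Over.w ((Over.pullback gm).map g)]
        exact (IsPullback.of_hasPullback T₀.hom gm).flip
      · exact (pullback.lift_fst _ _ _)
    have hQ : (@Surjective ⊓ @Flat ⊓ @QuasiCompact : MorphismProperty Scheme.{u}) (pullback.fst T'.hom gm) :=
      ⟨⟨MorphismProperty.pullback_fst _ _ hgms, MorphismProperty.pullback_fst _ _ hgmf⟩,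
        MorphismProperty.pullback_fst _ _ hgmq⟩
    haveI := hiso
    have h := MorphismProperty.of_isPullback_of_descendsAlong (P := MorphismProperty.isomorphisms Scheme.{u})
      hsq hQ (inferInstanceAs (IsIso ((Over.forget _).map ((Over.pullback gm).map g))))
    haveI : IsIso ((Over.forget (Spec (CommRingCat.of k))).map g) := h
    exact isIso_of_reflects_iso g (Over.forget _)
  let F := i' ≫ v
  suffices h : IsFinite F.left ∧ Flat F.left ∧ Surjective F.left by
    obtain ⟨h1, h2, h3⟩ := h
    haveI := h1; haveI := h2; haveI := h3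
    haveI : IsIso g.left := inferInstanceAs (IsIso ((Over.forget _).map g))
    rw [← hg, Category.assoc, Over.comp_left]
    exact ⟨inferInstance, inferInstance, inferInstance⟩
  haveI : IsSeparated E.hom := GrpSchLib.AntiAffine.isSeparated_grp E
  -- surjectivity
  obtain ⟨I, _, π, b, hπ, hb, hπb, hbc, -, hπs, hIl, hIq⟩ := GrpSchLib.ImageFactor.exists_image F
  haveI := hπ; haveI := hb; haveI := hbc; haveI := hπs; haveI := hIl; haveI := hIq
  obtain ⟨Z, _, t, ht, htf, hts, htk, hZl, hZq⟩ := exists_quot b (isNormal_of_comm b)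
  haveI := ht; haveI := htf; haveI := hts; haveI := hZl; haveI := hZq
  haveI : IsSeparated Z.hom := GrpSchLib.AntiAffine.isSeparated_grp Z
  obtain ⟨r, hr', hr, -⟩ := S3280.result k E T' B Z q i' hkq (v ≫ t) (by
    rw [← Category.assoc, show i' ≫ v = π ≫ b from hπb.symm, Category.assoc, htk.w, ← Category.assoc, comp_toUnit])
  haveI : Surjective r.left := by
    haveI : Surjective (q.left ≫ r.left) := by rw [← Over.comp_left, hr, Over.comp_left]; infer_instance
    exact Surjective.of_comp q.left r.left
  haveI : IsProper Z.hom := BC.isProper_of_surjective r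
  haveI : LocallyOfFinitePresentation Z.hom := LocallyOfFinitePresentation.iff_locallyOfFiniteType.2 inferInstance
  haveI := BC.surjective_of_quot_eq_one b t htk (GmProperLib.eq_one_torus hT t)
  haveI hFs : Surjective F.left := by rw [← hπb, Over.comp_left]; infer_instance
  haveI : IsReduced T.left := GrpSchLib.isReduced_of_smooth_field T.hom
  haveI hFf : Flat F.left :=
    GrpFieldLib.flat_of_range_nhd F ⊤ (fun x _ => F.left.surjective x) (fun _ => trivial)
  refine ⟨?_, hFf, hFs⟩
  obtain ⟨K, _, κ, hκ, hκc, -, hkK⟩ := GrpSchLib.exists_kernel F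
  haveI := hκ; haveI := hκc
  obtain ⟨c, hc⟩ : ∃ c : K ⟶ A, c ≫ f = κ ≫ i' :=
    ⟨hk.lift (κ ≫ i') (toUnit K) (by rw [Category.assoc]; exact hkK.w), hk.lift_fst _ _ _⟩
  haveI : IsClosedImmersion c.left := by
    haveI : IsClosedImmersion (c.left ≫ f.left) := by rw [← Over.comp_left, hc, Over.comp_left]; infer_instance
    exact IsClosedImmersion.of_comp c.left f.left
  haveI : IsProper K.hom := by rw [← Over.w c]; infer_instance
  haveI : IsAffineHom K.hom := by
    haveI : IsAffineHom T'.hom := inferInstance
    rw [← Over.w κ]; infer_instance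
  haveI : IsFinite K.hom := IsFinite.iff_isProper_and_isAffineHom.mpr ⟨inferInstance, inferInstance⟩
  haveI : QuasiCompact F.left := by
    haveI : QuasiCompact (F.left ≫ T.hom) := by rw [Over.w F]; infer_instance
    exact QuasiCompact.of_comp F.left T.hom
  haveI := EtFound.fpqc_isFinite.{u}
  exact S7982.property_of_kernel κ F hkK @IsFinite inferInstance

end Groth.Agent.AbTorusExt
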