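import Groth.Agent.OneMotFF.Pts
import Groth.Agent.Chevalley.CommAff.SAOps
import Groth.Agent.AlgSpLib.Descends
import Groth.Agent.EtFound.Descent
import Groth.Agent.BiextSplit.Class
import Groth.Agent.GITQuot.Fppf
import Groth.Agent.MagnetA1.Main
import Groth.Prelude.Def_CGrpSh

/-!
The projection of an fppf sheaf extension of a torus by an abelian variety, represented by a scheme, is
proper, flat and surjective, and the inclusion is its kernel.
-/

noncomputable section

set_option autoImplicit false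
set_option linter.style.haveILetI false
set_option linter.unusedSectionVars false
set_option backward.isDefEq.respectTransparency false
set_option backward.isDefEq.respectTransparency.types false
set_option maxHeartbeats 1000000

universe u

open CategoryTheory CategoryTheory.Limits MonoidalCategory CartesianMonoidalCategory MonObj AlgebraicGeometry Opposite

namespace Groth.Agent.AbTorusExt

variable {k : Type u} [Field k] {A E T : Over (Spec (CommRingCat.of k))}
  [GrpObj A] [IsCommMonObj A] [GrpObj E] [IsCommMonObj E] [GrpObj T] [IsCommMonObj T]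
  {f : A ⟶ E} {v : E ⟶ T} [IsMonHom f] [IsMonHom v] {w : f ≫ v = 1}
  (hex : (CGrpSh.seq Scheme.fppfPrecoverage f v w).ShortExact)

include hex in
theorem mono_incl : Mono f := ⟨fun {Z} a b hab => by
  haveI : Mono (CGrpSh.ptsMap Scheme.fppfPrecoverage f) := hex.mono_f
  have h := SiteBase.sheaf_app_injective (CGrpSh.ptsMap Scheme.fppfPrecoverage f) Z
    (a₁ := ULift.up (Additive.ofMul a)) (a₂ := ULift.up (Additive.ofMul b)) (ULift.ext _ _ (congrArg Additive.ofMul hab))
  exact congrArg (fun z => z.down.toMul) h⟩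

include hex in
theorem exists_incl {U : Over (Spec (CommRingCat.of k))} (y : U ⟶ E) (hy : y ≫ v = 1) : ∃ z : U ⟶ A, z ≫ f = y := by
  obtain ⟨z, hz⟩ := BiextSplit.sections_exact (CGrpSh.seq Scheme.fppfPrecoverage f v w).zero hex U
    (ULift.up (Additive.ofMul y)) (ULift.ext _ _ (congrArg Additive.ofMul hy))
  exact ⟨z.down.toMul, congrArg (fun z => z.down.toMul) hz⟩

include hex in
theorem isKernel : AlgGrp.IsKernel f v := by
  haveI := mono_incl hex
  have w' : f ≫ v = toUnit A ≫ η[T] := by rw [w, Hom.one_def]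
  refine IsPullback.of_isLimit' ⟨w'⟩ (PullbackCone.IsLimit.mk w'
    (fun s => (exists_incl hex s.fst (by rw [s.condition, Hom.one_def, toUnit_unique s.snd (toUnit _)])).choose)
    (fun s => (exists_incl hex s.fst (by rw [s.condition, Hom.one_def, toUnit_unique s.snd (toUnit _)])).choose_spec)
    (fun s => toUnit_unique _ _) (fun s m h1 _ => ?_))
  rw [← cancel_mono f, h1]
  exact ((exists_incl hex s.fst (by rw [s.condition, Hom.one_def, toUnit_unique s.snd (toUnit _)])).choose_spec).symm

include hex in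
theorem exists_section_cover [IsAffine T.left] : ∃ (V : Over (Spec (CommRingCat.of k))) (p : V ⟶ T) (x : V ⟶ E),
    IsAffine V.left ∧ Flat p.left ∧ Surjective p.left ∧ x ≫ v = p := by
  classical
  obtain ⟨R, hR, hl⟩ := MultSchFac.locSurj_of_epi v hex.epi_g T (𝟙 T)
  obtain ⟨I, W, c, hc, hfl, hlfp, hsurj⟩ := GITQuot.exists_cover ((GrothendieckTopology.mem_over_iff _ _).1 hR)
  have hsec : ∀ i, ∃ x : Over.mk (c i ≫ T.hom) ⟶ E, x ≫ v = Over.homMk (c i) := fun i => by
    obtain ⟨x, hx⟩ := hl _ ((Sieve.overEquiv_iff _ _).1 (hc i))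
    exact ⟨x, hx.trans (Category.comp_id _)⟩
  choose xs hxs using hsec
  have hloc : ∀ t : T.left, ∃ (i : I) (U : (W i).Opens), IsAffineOpen U ∧ t ∈ Set.range (U.ι ≫ c i) := fun t => by
    obtain ⟨i, y, hy⟩ := hsurj t
    obtain ⟨U, hU, hyU, -⟩ := exists_isAffineOpen_mem_and_subset (show y ∈ (⊤ : (W i).Opens) from trivial)
    exact ⟨i, U, hU, ⟨y, hyU⟩, by rw [Scheme.Hom.comp_apply]; exact hy⟩
  choose i U hU hmem using hloc
  haveI : ∀ t, Flat (U t).ι := fun t => inferInstance
  haveI : ∀ t, Flat ((U t).ι ≫ c (i t)) := fun t => by haveI := hfl (i t); infer_instance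
  haveI : ∀ t, LocallyOfFinitePresentation ((U t).ι ≫ c (i t)) := fun t => by haveI := hlfp (i t); infer_instance
  haveI : CompactSpace T.left := inferInstance
  obtain ⟨F, hF⟩ := isCompact_univ.elim_finite_subcover (fun t => Set.range ((U t).ι ≫ c (i t)))
    (fun t => ((U t).ι ≫ c (i t)).isOpenMap.isOpen_range) (fun t _ => Set.mem_iUnion.2 ⟨t, hmem t⟩)
  let Z : F → Scheme.{u} := fun t => (U t.1 : Scheme.{u})
  haveI : ∀ t : F, IsAffine (Z t) := fun t => hU t.1
  let p' : (∐ Z) ⟶ T.left := Sigma.desc fun t => (U t.1).ι ≫ c (i t.1)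
  let V : Over (Spec (CommRingCat.of k)) := Over.mk (p' ≫ T.hom)
  let x' : (∐ Z) ⟶ E.left := Sigma.desc fun t => (U t.1).ι ≫ (xs (i t.1)).left
  have hx' : x' ≫ v.left = p' := Sigma.hom_ext _ _ fun t => by
    simp only [x', p', Sigma.ι_desc_assoc, Sigma.ι_desc, Category.assoc]
    exact congrArg (fun z => (U t.1).ι ≫ z) (congrArg (fun z => z.left) (hxs (i t.1)))
  let x : V ⟶ E := Over.homMk x' (by
    show x' ≫ E.hom = p' ≫ T.hom
    rw [← Over.w v, reassoc_of% hx'])
  refine ⟨V, Over.homMk p' rfl, x, inferInstanceAs (IsAffine (∐ Z)),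
    IsZariskiLocalAtSource.sigmaDesc (P := @Flat) fun t => inferInstance, ⟨fun t => ?_⟩, Over.OverMorphism.ext hx'⟩
  obtain ⟨s, hs, y, hy⟩ := Set.mem_iUnion₂.1 (hF (Set.mem_univ t))
  refine ⟨(Sigma.ι Z ⟨s, hs⟩) y, ?_⟩
  show p' _ = t
  rw [← Scheme.Hom.comp_apply, Sigma.ι_desc]
  exact hy

include hex in
/-- The projection is proper, flat and surjective. -/
theorem proj_props [IsProper A.hom] [IsAffine T.left] : IsProper v.left ∧ Flat v.left ∧ Surjective v.left := by
  obtain ⟨V, p, x, hV, hpf, hps, hx⟩ := exists_section_cover hex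
  haveI := hV; haveI := hpf; haveI := hps
  haveI := mono_incl hex
  let Ψ : A ⊗ V ⟶ E := (fst A V ≫ f) * (snd A V ≫ x)
  have key : ∀ (U : Over (Spec (CommRingCat.of k))) (c : U ⟶ A ⊗ V),
      c ≫ Ψ = ((c ≫ fst A V) ≫ f) * ((c ≫ snd A V) ≫ x) := fun U c => by simp [Ψ, MonObj.comp_mul]
  have hw : Ψ ≫ v = snd A V ≫ p := by
    rw [show Ψ = (fst A V ≫ f) * (snd A V ≫ x) from rfl, MonObj.mul_comp, Category.assoc, w, MonObj.comp_one,
      _root_.one_mul, Category.assoc, hx]
  have hlift : ∀ s : PullbackCone v p, ∃ c : s.pt ⟶ A ⊗ V, c ≫ Ψ = s.fst ∧ c ≫ snd A V = s.snd := fun s => by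
    obtain ⟨z, hz⟩ := exists_incl hex (s.fst / (s.snd ≫ x)) (by
      rw [GrpObj.div_comp, Category.assoc, hx, s.condition, div_self'])
    exact ⟨lift z s.snd, by rw [key, lift_fst, lift_snd, hz, div_mul_cancel], lift_snd _ _⟩
  choose lft hl₁ hl₂ using hlift
  have hsq : IsPullback Ψ (snd A V) v p := IsPullback.of_isLimit' ⟨hw⟩
    (PullbackCone.IsLimit.mk hw lft hl₁ hl₂ fun s m h1 h2 => by
      have e₁ : m ≫ snd A V = lft s ≫ snd A V := by rw [h2, hl₂]
      refine CartesianMonoidalCategory.hom_ext _ _ ?_ e₁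
      have h := h1.trans (hl₁ s).symm
      rw [key, key, e₁] at h
      exact (cancel_mono f).1 (mul_right_cancel h))
  have h := (hsq.map (Over.forget (Spec (CommRingCat.of k)))).flip
  have hp : (@Surjective ⊓ @Flat ⊓ @QuasiCompact : MorphismProperty Scheme.{u}) p.left := by
    refine ⟨⟨hps, hpf⟩, ?_⟩
    haveI : IsAffineHom p.left := inferInstance
    infer_instance
  haveI := EtFound.fpqc_isProper.{u}
  have hsnd : IsProper (snd A V).left := inferInstanceAs (IsProper (pullback.snd A.hom V.hom))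
  have hsf : Flat (snd A V).left := by
    haveI : Flat A.hom := MagnetA1.flat_over_field k A.hom
    exact inferInstanceAs (Flat (pullback.snd A.hom V.hom))
  refine ⟨MorphismProperty.of_isPullback_of_descendsAlong (P := @IsProper) h hp hsnd,
    MorphismProperty.of_isPullback_of_descendsAlong (P := @Flat) h hp hsf, ⟨fun t => ?_⟩⟩
  obtain ⟨y, rfl⟩ := p.left.surjective t
  exact ⟨x.left y, by rw [← Scheme.Hom.comp_apply, ← Over.comp_left, hx]⟩

end Groth.Agent.AbTorusExt
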